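import Cfsg.Prelude.Def_ChevAutomorphisms
import Cfsg.Prelude.Def_LieTypes
import Cfsg.Prelude.Def_ChevB2
import Mathlib

/-!
# Permutations of the nodes preserving non-adjacency are diagram symmetries (helper8)
-/

set_option autoImplicit false

namespace Cfsg.Agent.Lib.Helper8.Aut

open Cfsg Cfsg.Lie

/-- simply laced: bonds are `0` or `1` -/
theorem diagSym_of_zero_one (D : ChevalleyDatum)
    (h01 : ∀ i j : Fin D.rank, i ≠ j → D.bonds i j = 0 ∨ D.bonds i j = 1)
    (ρ : Equiv.Perm (Fin D.rank))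
    (h : ∀ i j : Fin D.rank, i ≠ j → (D.bonds (ρ i) (ρ j) = 0 ↔ D.bonds i j = 0)) :
    D.IsDiagramSymmetry ρ := by
  intro i j hij
  have hρ : ρ i ≠ ρ j := fun e => hij (ρ.injective e)
  rcases h01 i j hij with h0 | h1
  · rw [h0, (h i j hij).2 h0]
  · rcases h01 (ρ i) (ρ j) hρ with h0' | h1'
    · have := (h i j hij).1 h0'
      rw [h1] at this
      exact absurd this one_ne_zero
    · rw [h1, h1']

theorem bonds01_D4 : ∀ i j : Fin chevD4.rank, i ≠ j →
    chevD4.bonds i j = 0 ∨ chevD4.bonds i j = 1 := by decide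

theorem bonds01_E6 : ∀ i j : Fin chevE6.rank, i ≠ j →
    chevE6.bonds i j = 0 ∨ chevE6.bonds i j = 1 := by decide

set_option maxRecDepth 100000 in
theorem bonds01_E7 : ∀ i j : Fin chevE7.rank, i ≠ j →
    chevE7.bonds i j = 0 ∨ chevE7.bonds i j = 1 := by decide

set_option maxRecDepth 100000 in
theorem bonds01_E8 : ∀ i j : Fin chevE8.rank, i ≠ j →
    chevE8.bonds i j = 0 ∨ chevE8.bonds i j = 1 := by decide

theorem bonds_G2 : ∀ a b c d : Fin chevG2.rank, a ≠ b → c ≠ d →
    chevG2.bonds a b = chevG2.bonds c d := by decide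

theorem bonds_B2 : ∀ a b c d : Fin chevB2.rank, a ≠ b → c ≠ d →
    chevB2.bonds a b = chevB2.bonds c d := by decide

set_option maxRecDepth 100000 in
theorem bonds_F4 : ∀ f : Fin chevF4.rank → Fin chevF4.rank, Function.Injective f →
    (∀ i j : Fin chevF4.rank, i ≠ j → (chevF4.bonds (f i) (f j) = 0 ↔ chevF4.bonds i j = 0)) →
    ∀ i j : Fin chevF4.rank, i ≠ j → chevF4.bonds (f i) (f j) = chevF4.bonds i j := by
  decide +kernel

/-- a permutation of the nodes preserving the pairs of nodes not joined by a bond is a symmetry of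
the diagram -/
theorem isDiagramSymmetry_of_zero_iff (D : ChevalleyDatum)
    (hD : D ∈ [chevG2, chevB2, chevD4, chevF4, chevE6, chevE7, chevE8])
    (ρ : Equiv.Perm (Fin D.rank))
    (h : ∀ i j : Fin D.rank, i ≠ j → (D.bonds (ρ i) (ρ j) = 0 ↔ D.bonds i j = 0)) :
    D.IsDiagramSymmetry ρ := by
  simp only [List.mem_cons, List.not_mem_nil, or_false] at hD
  rcases hD with rfl | rfl | rfl | rfl | rfl | rfl | rfl
  · intro i j hij
    exact bonds_G2 _ _ _ _ (fun e => hij (ρ.injective e)) hij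
  · intro i j hij
    exact bonds_B2 _ _ _ _ (fun e => hij (ρ.injective e)) hij
  · exact diagSym_of_zero_one _ bonds01_D4 ρ h
  · intro i j hij
    exact bonds_F4 ρ ρ.injective h i j hij
  · exact diagSym_of_zero_one _ bonds01_E6 ρ h
  · exact diagSym_of_zero_one _ bonds01_E7 ρ h
  · exact diagSym_of_zero_one _ bonds01_E8 ρ h

end Cfsg.Agent.Lib.Helper8.Aut
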