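import Cfsg.Agent.Lib.Helper8.Aut.CommIff
import Cfsg.Agent.Lib.Helper8.Aut.DiagSym
import Cfsg.Agent.Lib.Helper5.Chev.PosAll
import Mathlib

/-!
# An automorphism permuting the fundamental root subgroups induces a diagram symmetry (helper8)
-/

set_option autoImplicit false

namespace Cfsg.Agent.Lib.Helper8.Aut

open Cfsg Cfsg.Lie Cfsg.Agent.Lib.Helper5.Chev

variable {F : Type*} [Field F]

/-- the root element `x_r(t)` as an element of the Chevalley group -/
noncomputable def xG (D : ChevalleyDatum) (hadd : AllAdd F D) (r : ℕ) (t : F) : ↥(D.group F) :=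
  ⟨hadd.xU r t, hadd.xU_mem_group r t⟩

theorem xG_val (D : ChevalleyDatum) (hadd : AllAdd F D) (r : ℕ) (t : F) :
    (((xG D hadd r t : ↥(D.group F)) : GL D.Idx F) : Matrix D.Idx D.Idx F) = D.x F r t := rfl

theorem group_ext (D : ChevalleyDatum) (g h : ↥(D.group F))
    (e : ((g : GL D.Idx F) : Matrix D.Idx D.Idx F) = ((h : GL D.Idx F) : Matrix D.Idx D.Idx F)) :
    g = h := Subtype.ext (Units.ext e)

theorem group_mul_val (D : ChevalleyDatum) (g h : ↥(D.group F)) :
    (((g * h : ↥(D.group F)) : GL D.Idx F) : Matrix D.Idx D.Idx F)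
      = ((g : GL D.Idx F) : Matrix D.Idx D.Idx F) * ((h : GL D.Idx F) : Matrix D.Idx D.Idx F) := rfl

/-- **A3** -/
theorem isDiagramSymmetry_of_aut (D : ChevalleyDatum)
    (hD : D ∈ [chevG2, chevB2, chevD4, chevF4, chevE6, chevE7, chevE8])
    (θ : ↥(D.group F) ≃* ↥(D.group F)) (ρ : Equiv.Perm (Fin D.rank))
    (φ : Fin D.rank → F → F) (hφ : ∀ i, Function.Surjective (φ i))
    (hθ : ∀ (g : ↥(D.group F)) (i : Fin D.rank) (t : F),
      ((g : GL D.Idx F) : Matrix D.Idx D.Idx F) = D.x F (D.simple i) t →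
        ((θ g : GL D.Idx F) : Matrix D.Idx D.Idx F) = D.x F (D.simple (ρ i)) (φ i t)) :
    D.IsDiagramSymmetry ρ := by
  have hadd := allAdd_all (F := F) D hD
  apply isDiagramSymmetry_of_zero_iff D hD ρ
  intro i j hij
  have hρ : ρ i ≠ ρ j := fun e => hij (ρ.injective e)
  rw [← commute_simple_iff (F := F) D hD (ρ i) (ρ j) hρ, ← commute_simple_iff (F := F) D hD i j hij]
  have hi : ∀ t : F, ((θ (xG D hadd (D.simple i) t) : GL D.Idx F) : Matrix D.Idx D.Idx F)
      = D.x F (D.simple (ρ i)) (φ i t) := fun t => hθ _ i t (xG_val D hadd _ t)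
  have hj : ∀ t : F, ((θ (xG D hadd (D.simple j) t) : GL D.Idx F) : Matrix D.Idx D.Idx F)
      = D.x F (D.simple (ρ j)) (φ j t) := fun t => hθ _ j t (xG_val D hadd _ t)
  constructor
  · intro h t u
    have h1 : θ (xG D hadd (D.simple i) t * xG D hadd (D.simple j) u)
        = θ (xG D hadd (D.simple j) u * xG D hadd (D.simple i) t) := by
      rw [map_mul, map_mul]
      apply group_ext
      rw [group_mul_val, group_mul_val, hi, hj]
      exact h _ _
    have h2 := θ.injective h1
    have h3 := congrArg (fun g : ↥(D.group F) => ((g : GL D.Idx F) : Matrix D.Idx D.Idx F)) h2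
    exact h3
  · intro h t' u'
    obtain ⟨t, rfl⟩ := hφ i t'
    obtain ⟨u, rfl⟩ := hφ j u'
    have h1 : xG D hadd (D.simple i) t * xG D hadd (D.simple j) u
        = xG D hadd (D.simple j) u * xG D hadd (D.simple i) t := by
      apply group_ext
      exact h t u
    have h2 := congrArg θ h1
    rw [map_mul, map_mul] at h2
    have h3 := congrArg (fun g : ↥(D.group F) => ((g : GL D.Idx F) : Matrix D.Idx D.Idx F)) h2
    simp only [group_mul_val, hi, hj] at h3
    exact h3

end Cfsg.Agent.Lib.Helper8.Aut
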