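import Cfsg.Agent.Lib.Helper8.Aut.PairsAll
import Mathlib

/-!
# Two fundamental root subgroups commute iff their nodes are not joined, all types (helper8)
-/

set_option autoImplicit false

namespace Cfsg.Agent.Lib.Helper8.Aut

open Cfsg Cfsg.Lie Cfsg.Agent.Lib.Helper5.Chev

variable {F : Type*} [Field F]

theorem pair_check (D : ChevalleyDatum)
    (hD : D ∈ [chevG2, chevB2, chevD4, chevF4, chevE6, chevE7, chevE8])
    (i j : Fin D.rank) (hij : i ≠ j) :
    (if D.bonds i j = 0 then nonadjOK D i j else adjOK D i j) = true := by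
  have h := pairsOK_all D hD
  unfold pairsOK at h
  rw [List.all_eq_true] at h
  have h1 := h i.val (List.mem_range.2 i.isLt)
  rw [List.all_eq_true] at h1
  have h2 := h1 j.val (List.mem_range.2 j.isLt)
  rw [Bool.or_eq_true] at h2
  rcases h2 with h2 | h2
  · exact absurd (Fin.ext (by simpa using h2)) hij
  · exact h2

theorem chainCoeff_nil (D : ChevalleyDatum) (r ns : ℕ)
    (h : ((D.chain.getD r #[]).toList.filter (fun e => e.1 = ns)).isEmpty = true) (c : ℕ) :
    D.chainCoeff r ns c = [] := by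
  unfold ChevalleyDatum.chainCoeff
  rw [List.isEmpty_iff] at h
  rw [h]
  rfl

/-- **A1**: the root subgroups of two distinct fundamental roots commute elementwise iff the two
nodes are not joined in the diagram -/
theorem commute_simple_iff (D : ChevalleyDatum)
    (hD : D ∈ [chevG2, chevB2, chevD4, chevF4, chevE6, chevE7, chevE8])
    (i j : Fin D.rank) (hij : i ≠ j) :
    (∀ t u : F, D.x F (D.simple i) t * D.x F (D.simple j) u
      = D.x F (D.simple j) u * D.x F (D.simple i) t) ↔ D.bonds i j = 0 := by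
  have hchk := pair_check D hD i j hij
  obtain ⟨hr, -⟩ := simple_lt_all D hD i i.isLt
  obtain ⟨hs, hns⟩ := simple_lt_all D hD j j.isLt
  constructor
  · intro hcomm
    by_contra hb
    rw [if_neg hb] at hchk
    unfold adjOK at hchk
    simp only [Bool.and_eq_true, Bool.or_eq_true, decide_eq_true_eq] at hchk
    obtain ⟨⟨⟨⟨⟨⟨⟨⟨⟨⟨⟨⟨⟨-, -⟩, -⟩, hk⟩, h1⟩, h2⟩, h3⟩, h4⟩, h5⟩, h6⟩, h7⟩, h8⟩, hF1⟩, hF2⟩ := hchk
    have hM : ∃ M : ℤ, D.chainCoeff (D.simple i) (D.simple j)
        ((D.chainRoot (D.simple i) (D.simple j) 1).getD 0) = [(1, M)] ∧ (M = 1 ∨ M = -1) := by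
      rcases hF2 with h | h
      · exact ⟨1, h, Or.inl rfl⟩
      · exact ⟨-1, h, Or.inr rfl⟩
    obtain ⟨M, hM1, hM2⟩ := hM
    have key := noncomm_entry (F := F) D ⟨D.simple i, hr⟩ ⟨D.simple j, hs⟩
      ⟨D.neg (D.simple j), hns⟩ ⟨(D.chainRoot (D.simple i) (D.simple j) 1).getD 0, hk⟩ M rfl
      (fun e => h1 (congrArg Fin.val e)) h2 (fun e => h3 (congrArg Fin.val e)) h4
      (fun e => h5 (congrArg Fin.val e)) (fun e => h6 (congrArg Fin.val e))
      (fun e => h7 (congrArg Fin.val e)) (fun e => h8 (congrArg Fin.val e))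
      (chainCoeff_nil D _ _ hF1) hM1 1 1
    have hc := hcomm 1 1
    unfold ChevalleyDatum.x at hc
    rw [dif_pos hr, dif_pos hs] at hc
    rw [hc, key.2] at key
    have h0 : (M : F) = 0 := by
      have := key.1
      simp only [one_pow, mul_one] at this
      exact neg_eq_zero.mp this.symm
    rcases hM2 with rfl | rfl
    · simp at h0
    · simp at h0
  · intro hb t u
    rw [if_pos hb] at hchk
    unfold nonadjOK at hchk
    simp only [Bool.and_eq_true, decide_eq_true_eq] at hchk
    obtain ⟨⟨h1, h2⟩, h3⟩ := hchk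
    have hf := comm_formula (F := F) D hD (D.simple i) (D.simple j) hr hs h1 h2 t u
    have hw : D.commWord F (D.simple i) (D.simple j) t u = [] := by
      unfold ChevalleyDatum.commWord
      rw [List.isEmpty_iff] at h3
      rw [h3]
      rfl
    rw [hw] at hf
    have h1' : D.wordMat F ([] : List (ℕ × F)) = 1 := by
      unfold ChevalleyDatum.wordMat
      simp
    rw [h1', mul_one] at hf
    exact hf.symm

end Cfsg.Agent.Lib.Helper8.Aut
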