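import Cfsg.Agent.Lib.Helper5.Chev.CmAll
import Cfsg.Agent.Lib.Helper5.Chev.HAll
import Cfsg.Prelude.Def_ChevAutomorphisms
import Mathlib

/-!
# Two fundamental root subgroups commute iff their nodes are not joined (helper8)
-/

set_option autoImplicit false

namespace Cfsg.Agent.Lib.Helper8.Aut

open Cfsg Cfsg.Lie Cfsg.Agent.Lib.Helper5.Chev

section generic

variable {F : Type*} [Field F] (D : ChevalleyDatum)

/-- a generic column of `x_r(t)` -/
theorem xMat_col_generic (r s : Fin D.nroots) (hsr : s ≠ r)
    (hsn : s.val ≠ D.negIdx.getD r.val 0) (t : F) (row : D.Idx) :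
    D.xMat F r t row (Sum.inr s) =
      (match row with
       | Sum.inl _ => 0
       | Sum.inr u => (if u = s then 1 else 0) +
           ((D.chainCoeff r.val s.val u.val).map fun km => ((km.2 : ℤ) : F) * t ^ km.1).sum) := by
  unfold ChevalleyDatum.xMat
  simp only [Matrix.of_apply]
  rw [if_neg hsr, if_neg hsn]
  rcases row with i | c <;> rfl

/-- the column of `e_{-s}` of `x_s(u)` -/
theorem xMat_col_neg (s ns : Fin D.nroots) (hns : ns.val = D.negIdx.getD s.val 0) (hne : ns ≠ s)
    (u : F) (row : D.Idx) :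
    D.xMat F s u row (Sum.inr ns) =
      (match row with
       | Sum.inl i => (((D.coroot.getD s.val #[]).getD i.val 0 : ℤ) : F) * u
       | Sum.inr c => if c = ns then 1 else if c = s then -(u ^ 2) else 0) := by
  unfold ChevalleyDatum.xMat
  simp only [Matrix.of_apply]
  rw [if_neg hne, if_pos hns]
  rcases row with i | c <;> rfl

/-- the entries in the columns of the `h_{p_i}` and the rows of the root vectors -/
theorem xMat_inr_inl (r k : Fin D.nroots) (hk : k ≠ r) (i : Fin D.rank) (t : F) :
    D.xMat F r t (Sum.inr k) (Sum.inl i) = 0 := by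
  unfold ChevalleyDatum.xMat
  simp only [Matrix.of_apply]
  rw [if_neg hk]

theorem noncomm_entry (r s ns k : Fin D.nroots) (M : ℤ)
    (hns : ns.val = D.negIdx.getD s.val 0)
    (h1 : s ≠ r) (h2 : s.val ≠ D.negIdx.getD r.val 0) (h3 : ns ≠ r)
    (h4 : ns.val ≠ D.negIdx.getD r.val 0)
    (h5 : ns ≠ s) (h6 : k ≠ r) (h7 : k ≠ s) (h8 : k ≠ ns)
    (hF1 : ∀ c : ℕ, D.chainCoeff r.val ns.val c = [])
    (hF2 : D.chainCoeff r.val s.val k.val = [(1, M)]) (t u : F) :
    (D.xMat F r t * D.xMat F s u) (Sum.inr k) (Sum.inr ns) = -(M : F) * t * u ^ 2 ∧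
    (D.xMat F s u * D.xMat F r t) (Sum.inr k) (Sum.inr ns) = 0 := by
  constructor
  · rw [Matrix.mul_apply, Fintype.sum_sum_type]
    have e1 : ∀ i : Fin D.rank, D.xMat F r t (Sum.inr k) (Sum.inl i) *
        D.xMat F s u (Sum.inl i) (Sum.inr ns) = 0 := by
      intro i
      rw [xMat_inr_inl D r k h6 i t, zero_mul]
    rw [Finset.sum_congr rfl (fun i _ => e1 i), Finset.sum_const_zero, zero_add]
    have e2 : ∀ c : Fin D.nroots, D.xMat F r t (Sum.inr k) (Sum.inr c) *
        D.xMat F s u (Sum.inr c) (Sum.inr ns) =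
        (if c = ns then D.xMat F r t (Sum.inr k) (Sum.inr ns) else 0) +
        (if c = s then D.xMat F r t (Sum.inr k) (Sum.inr s) * -(u ^ 2) else 0) := by
      intro c
      rw [xMat_col_neg D s ns hns h5 u (Sum.inr c)]
      by_cases hc : c = ns
      · subst hc
        simp [h5]
      · by_cases hc' : c = s
        · subst hc'
          simp [hc]
        · simp [hc, hc']
    rw [Finset.sum_congr rfl (fun c _ => e2 c), Finset.sum_add_distrib,
      Finset.sum_ite_eq' Finset.univ ns, Finset.sum_ite_eq' Finset.univ s]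
    simp only [Finset.mem_univ, if_true]
    rw [xMat_col_generic D r ns h3 h4 t (Sum.inr k), xMat_col_generic D r s h1 h2 t (Sum.inr k)]
    simp only [hF1, hF2, if_neg h8, if_neg h7]
    simp
  · rw [Matrix.mul_apply, Fintype.sum_sum_type]
    have e1 : ∀ i : Fin D.rank, D.xMat F s u (Sum.inr k) (Sum.inl i) *
        D.xMat F r t (Sum.inl i) (Sum.inr ns) = 0 := by
      intro i
      rw [xMat_inr_inl D s k h7 i u, zero_mul]
    rw [Finset.sum_congr rfl (fun i _ => e1 i), Finset.sum_const_zero, zero_add]
    have e2 : ∀ c : Fin D.nroots, D.xMat F s u (Sum.inr k) (Sum.inr c) *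
        D.xMat F r t (Sum.inr c) (Sum.inr ns) =
        (if c = ns then D.xMat F s u (Sum.inr k) (Sum.inr ns) else 0) := by
      intro c
      rw [xMat_col_generic D r ns h3 h4 t (Sum.inr c)]
      simp only [hF1]
      by_cases hc : c = ns
      · subst hc
        simp
      · simp [hc]
    rw [Finset.sum_congr rfl (fun c _ => e2 c), Finset.sum_ite_eq' Finset.univ ns]
    simp only [Finset.mem_univ, if_true]
    rw [xMat_col_neg D s ns hns h5 u (Sum.inr k), ]
    simp [h8, h7]

end generic

end Cfsg.Agent.Lib.Helper8.Aut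

namespace Cfsg.Agent.Lib.Helper8.Aut

open Cfsg Cfsg.Lie Cfsg.Agent.Lib.Helper5.Chev

/-- the checks on the tables for two joined nodes -/
def adjOK (D : ChevalleyDatum) (i j : ℕ) : Bool :=
  let r := D.simple i
  let s := D.simple j
  let ns := D.neg s
  let k := (D.chainRoot r s 1).getD 0
  decide (r < D.nroots) && decide (s < D.nroots) && decide (ns < D.nroots) &&
  decide (k < D.nroots) &&
  decide (s ≠ r) && decide (s ≠ D.neg r) && decide (ns ≠ r) && decide (ns ≠ D.neg r) &&
  decide (ns ≠ s) && decide (k ≠ r) && decide (k ≠ s) && decide (k ≠ ns) &&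
  ((D.chain.getD r #[]).toList.filter (fun e => e.1 = ns)).isEmpty &&
  (decide (D.chainCoeff r s k = [(1, 1)]) || decide (D.chainCoeff r s k = [(1, -1)]))

/-- the checks on the tables for two nodes that are not joined -/
def nonadjOK (D : ChevalleyDatum) (i j : ℕ) : Bool :=
  let r := D.simple i
  let s := D.simple j
  decide (s ≠ r) && decide (s ≠ D.neg r) && (D.commTerms r s).isEmpty

/-- the checks for all pairs of nodes -/
def pairsOK (D : ChevalleyDatum) : Bool :=
  (List.range D.rank).all fun i => (List.range D.rank).all fun j =>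
    (i == j) || (if D.bonds i j = 0 then nonadjOK D i j else adjOK D i j)

theorem pairsOK_G2 : pairsOK chevG2 = true := by decide
theorem pairsOK_B2 : pairsOK chevB2 = true := by decide

end Cfsg.Agent.Lib.Helper8.Aut
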