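import Cfsg.Agent.Lib.Helper8.Aut.RankOneAut
import Mathlib

/-!
# A3 and B1 in the shape used by the assembly of S2156 (helper8)
-/

set_option autoImplicit false

namespace Cfsg.Agent.Lib.Helper8.Aut

open Cfsg Cfsg.Lie Cfsg.Agent.Lib.Helper5.Chev
open scoped Matrix

variable {F : Type*} [Field F]

/-- **A3**: the permutation of the nodes induced by an automorphism permuting the fundamental root
subgroups is a symmetry of the diagram -/
theorem A3 (D : ChevalleyDatum)
    (hD : D ∈ [chevG2, chevB2, chevD4, chevF4, chevE6, chevE7, chevE8])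
    (θ' : ↥(D.group F) ≃* ↥(D.group F)) (ρ : Equiv.Perm (Fin D.rank))
    (φp : Fin D.rank → F ≃+ F)
    (hp : ∀ (i : Fin D.rank) (g : ↥(D.group F)) (t : F),
      ((g : GL D.Idx F) : Matrix D.Idx D.Idx F) = D.x F (D.simple i) t →
        ((θ' g : GL D.Idx F) : Matrix D.Idx D.Idx F) = D.x F (D.simple (ρ i)) (φp i t)) :
    D.IsDiagramSymmetry ρ :=
  isDiagramSymmetry_of_aut D hD θ' ρ (fun i t => φp i t) (fun i => (φp i).surjective)
    (fun g i t h => hp i g t h)

/-- **B1**: the rank one identity -/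
theorem B1 (D : ChevalleyDatum)
    (hD : D ∈ [chevG2, chevB2, chevD4, chevF4, chevE6, chevE7, chevE8])
    (θ' : ↥(D.group F) ≃* ↥(D.group F)) (ρ : Equiv.Perm (Fin D.rank))
    (φp φm : Fin D.rank → F ≃+ F)
    (hp : ∀ (i : Fin D.rank) (g : ↥(D.group F)) (t : F),
      ((g : GL D.Idx F) : Matrix D.Idx D.Idx F) = D.x F (D.simple i) t →
        ((θ' g : GL D.Idx F) : Matrix D.Idx D.Idx F) = D.x F (D.simple (ρ i)) (φp i t))
    (hm : ∀ (i : Fin D.rank) (g : ↥(D.group F)) (t : F),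
      ((g : GL D.Idx F) : Matrix D.Idx D.Idx F) = D.x F (D.neg (D.simple i)) t →
        ((θ' g : GL D.Idx F) : Matrix D.Idx D.Idx F) = D.x F (D.neg (D.simple (ρ i))) (φm i t))
    (i : Fin D.rank) (t : F) (ht : t ≠ 0) : φm i (-t⁻¹) = -(φp i t)⁻¹ := by
  have hM : MapsSimple D θ' ρ (fun i t => φp i t) (fun i t => φm i t) :=
    ⟨fun g i t h => hp i g t h, fun g i t h => hm i g t h⟩
  have h1 : φp i t * φm i (-t⁻¹) = -1 := hM.rank_one hD i t ht
  have h2 : φp i t ≠ 0 := by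
    intro h0
    rw [h0, zero_mul] at h1
    exact one_ne_zero (neg_eq_zero.mp h1.symm)
  calc φm i (-t⁻¹) = (φp i t)⁻¹ * (φp i t * φm i (-t⁻¹)) := by
        rw [← mul_assoc, inv_mul_cancel₀ h2, one_mul]
    _ = -(φp i t)⁻¹ := by rw [h1, mul_neg, mul_one]

end Cfsg.Agent.Lib.Helper8.Aut
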