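import Cfsg.Agent.Lib.Helper5.AutBN.OutSym
import Mathlib

/-!
# Pieces for the structure of `Out G`: field automorphisms form a cyclic group; the subgroups
generated by the diagonal and by the field automorphisms (helper8)
-/

set_option autoImplicit false

namespace Cfsg.Agent.Lib.Helper8.Aut

open Cfsg Cfsg.Lie Cfsg.Agent.Lib.Helper5 Cfsg.Agent.Lib.Helper5.Chev Cfsg.Agent.ChevAut
  Cfsg.Agent.Lib.Helper5.AutBN

/-- the automorphism group of a finite field is cyclic -/
theorem isCyclic_ringAut (F : Type*) [Field F] [Finite F] : IsCyclic (F ≃+* F) := by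
  obtain ⟨p, hp⟩ := CharP.exists F
  have hpp : p.Prime := CharP.char_is_prime F p
  have : Fact p.Prime := ⟨hpp⟩
  let _ : Algebra (ZMod p) F := ZMod.algebra F p
  let f : (F ≃ₐ[ZMod p] F) →* (F ≃+* F) :=
    { toFun := fun e => e.toRingEquiv
      map_one' := rfl
      map_mul' := fun _ _ => rfl }
  apply isCyclic_of_surjective f
  intro ψ
  refine ⟨AlgEquiv.ofRingEquiv (f := ψ) (fun r => ?_), rfl⟩
  have : (ψ : F →+* F).comp (algebraMap (ZMod p) F) = algebraMap (ZMod p) F :=
    Subsingleton.elim _ _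
  exact DFunLike.congr_fun this r

section

variable {F : Type*} [Field F] (D : ChevalleyDatum)
  (hD : D ∈ [chevG2, chevB2, chevD4, chevF4, chevE6, chevE7, chevE8])
  (M : List (List ℤ)) (d : ℤ) (hd : d ≠ 0) (hM : coordb D M d = true)

include hd in
/-- the diagonal automorphisms are the range of `diagHom` -/
theorem setOf_isDiagonalAut :
    {φ : MulAut ↥(D.group F) | D.IsDiagonalAut φ} = Set.range (diagHom (F := F) D hD M d hd hM) := by
  ext φ
  constructor
  · intro hφ
    obtain ⟨c, hc⟩ := eq_diagC D hD M d hd hM φ hφ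
    exact ⟨c, hc.symm⟩
  · rintro ⟨c, rfl⟩
    show D.IsDiagonalAut (diagC D hD M d hM c)
    exact isDiagonalAut_diagAut D hD (chiC D M d c) (isRootCharacter_chiC D hD M d hM c)

include hD in
/-- the field automorphisms are the range of `fieldAutHom` -/
theorem setOf_isFieldAut :
    {φ : MulAut ↥(D.group F) | D.IsFieldAut φ} = Set.range (fieldAutHom (F := F) D) := by
  ext φ
  constructor
  · rintro ⟨σ, hσ⟩
    exact ⟨σ, (eq_fieldAut D hD σ φ hσ).symm⟩
  · rintro ⟨σ, rfl⟩
    exact isFieldAut_fieldAut D σ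

include hd in
theorem Dbar_eq :
    (Subgroup.closure {φ : MulAut ↥(D.group F) | D.IsDiagonalAut φ}).map
        (QuotientGroup.mk' (Cfsg.Inn ↥(D.group F)))
      = (diagOut (F := F) D hD M d hd hM).range := by
  rw [setOf_isDiagonalAut D hD M d hd hM, ← MonoidHom.coe_range, Subgroup.closure_eq,
    MonoidHom.map_range]
  rfl

include hD in
theorem Fbar_eq :
    (Subgroup.closure {φ : MulAut ↥(D.group F) | D.IsFieldAut φ}).map
        (QuotientGroup.mk' (Cfsg.Inn ↥(D.group F)))
      = (fieldOut (F := F) D).range := by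
  rw [setOf_isFieldAut D hD, ← MonoidHom.coe_range, Subgroup.closure_eq, MonoidHom.map_range]
  rfl

end

end Cfsg.Agent.Lib.Helper8.Aut
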