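import Cfsg.Agent.Lib.Helper8.Aut.OutA
import Mathlib

/-!
# The index of `DF` in `Out G` is at most two when the diagram has at most two symmetries
(helper8)
-/

set_option autoImplicit false

namespace Cfsg.Agent.Lib.Helper8.Aut

open Cfsg Cfsg.Lie Cfsg.Agent.Lib.Helper5 Cfsg.Agent.Lib.Helper5.Chev Cfsg.Agent.ChevAut
  Cfsg.Agent.Lib.Helper5.AutBN

/-! ### abstract counting -/

/-- if every element lies in `N t` for a `t` which is `1` or `w`, then `N` has index `1` or `2` -/
theorem index_one_or_two {Q : Type*} [Group Q] [Finite Q] (N : Subgroup Q) [N.Normal] (w : Q)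
    (h : ∀ ω : Q, ∃ n ∈ N, ω = n ∨ ω = n * w) : N.index = 1 ∨ N.index = 2 := by
  have h0 : N.index ≠ 0 := Subgroup.index_ne_zero_of_finite
  have hsurj : Function.Surjective (fun b : Bool => if b then (QuotientGroup.mk w : Q ⧸ N) else 1) := by
    intro q
    obtain ⟨ω, rfl⟩ := QuotientGroup.mk_surjective q
    obtain ⟨n, hn, h1 | h1⟩ := h ω
    · refine ⟨false, ?_⟩
      simp only [Bool.false_eq_true, if_false]
      rw [h1]
      exact ((QuotientGroup.eq_one_iff n).2 hn).symm
    · refine ⟨true, ?_⟩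
      simp only [if_true]
      rw [h1, QuotientGroup.mk_mul, (QuotientGroup.eq_one_iff n).2 hn, one_mul]
  have hle := Nat.card_le_card_of_surjective _ hsurj
  have h2 : Nat.card Bool = 2 := by simp
  have : N.index = Nat.card (Q ⧸ N) := rfl
  omega

/-! ### the diagrams with at most two symmetries -/

set_option maxRecDepth 1000000 in
theorem sym_G2 : ∀ π : Equiv.Perm (Fin chevG2.rank),
    π = 1 ∨ π = Equiv.swap ⟨0, by decide⟩ ⟨1, by decide⟩ := by
  decide +kernel

set_option maxRecDepth 1000000 in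
theorem sym_B2 : ∀ π : Equiv.Perm (Fin chevB2.rank),
    π = 1 ∨ π = Equiv.swap ⟨0, by decide⟩ ⟨1, by decide⟩ := by
  decide +kernel

set_option maxRecDepth 1000000 in
theorem sym_F4 : ∀ π : Equiv.Perm (Fin chevF4.rank), chevF4.IsDiagramSymmetry π →
    π = 1 ∨ π = Equiv.swap ⟨0, by decide⟩ ⟨3, by decide⟩ * Equiv.swap ⟨1, by decide⟩ ⟨2, by decide⟩ := by
  decide +kernel

set_option maxRecDepth 1000000 in
theorem sym_E6 : ∀ π : Equiv.Perm (Fin chevE6.rank), chevE6.IsDiagramSymmetry π →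
    π = 1 ∨ π = Equiv.swap ⟨0, by decide⟩ ⟨5, by decide⟩ * Equiv.swap ⟨2, by decide⟩ ⟨4, by decide⟩ := by
  decide +kernel

/-- the diagrams other than `D₄` have at most two symmetries -/
theorem sym_le_two (D : ChevalleyDatum)
    (hD6 : D ∈ [chevG2, chevB2, chevF4, chevE6, chevE7, chevE8]) :
    ∃ π₀ : Equiv.Perm (Fin D.rank), ∀ π, D.IsDiagramSymmetry π → π = 1 ∨ π = π₀ := by
  simp only [List.mem_cons, List.not_mem_nil, or_false] at hD6
  rcases hD6 with rfl | rfl | rfl | rfl | rfl | rfl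
  · exact ⟨_, fun π _ => sym_G2 π⟩
  · exact ⟨_, fun π _ => sym_B2 π⟩
  · exact ⟨_, sym_F4⟩
  · exact ⟨_, sym_E6⟩
  · exact ⟨1, fun π hπ => Or.inl (eq_one_of_walk_inj _ walk_inj_E7 π hπ)⟩
  · exact ⟨1, fun π hπ => Or.inl (eq_one_of_walk_inj _ walk_inj_E8 π hπ)⟩

section

variable {F : Type*} [Field F] [Finite F] (D : ChevalleyDatum)
  (hD : D ∈ [chevG2, chevB2, chevD4, chevF4, chevE6, chevE7, chevE8])
  (M : List (List ℤ)) (d : ℤ) (hd : d ≠ 0) (hM : coordb D M d = true)

/-- the body of `IsGraphAut` for a given permutation -/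
def GraphVia (π : Equiv.Perm (Fin D.rank)) (g : ↥(D.group F) ≃* ↥(D.group F)) : Prop :=
  ∀ (y : ↥(D.group F)) (i : Fin D.rank) (t : F),
    (((y : GL D.Idx F) : Matrix D.Idx D.Idx F) = D.x F (D.simple i) t →
      ((g y : GL D.Idx F) : Matrix D.Idx D.Idx F) =
        D.x F (D.simple (π i)) (t ^ D.graphExp (ringChar F) i (π i))) ∧
    (((y : GL D.Idx F) : Matrix D.Idx D.Idx F) = D.x F (D.neg (D.simple i)) t →
      ((g y : GL D.Idx F) : Matrix D.Idx D.Idx F) =
        D.x F (D.neg (D.simple (π i))) (t ^ D.graphExp (ringChar F) i (π i)))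

omit [Finite F] in
include hD in
theorem GraphVia.unique {π : Equiv.Perm (Fin D.rank)} {g g' : ↥(D.group F) ≃* ↥(D.group F)}
    (h : GraphVia D π g) (h' : GraphVia D π g') : g = g' := by
  apply aut_ext_simple hD
  · intro i hi t y hy
    apply Subtype.ext
    apply Units.ext
    rw [(h y ⟨i, hi⟩ t).1 hy, (h' y ⟨i, hi⟩ t).1 hy]
  · intro i hi t y hy
    apply Subtype.ext
    apply Units.ext
    rw [(h y ⟨i, hi⟩ t).2 hy, (h' y ⟨i, hi⟩ t).2 hy]

omit [Finite F] in
include hD in
theorem GraphVia.eq_one {g : ↥(D.group F) ≃* ↥(D.group F)} (h : GraphVia D 1 g) : g = 1 := by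
  apply eq_refl_of_graph D hD g
  intro y i t
  have hexp : D.graphExp (ringChar F) i ((1 : Equiv.Perm (Fin D.rank)) i) = 1 := by
    unfold ChevalleyDatum.graphExp
    simp
  have := h y i t
  rw [hexp, pow_one] at this
  exact this

include hd in
/-- the classes of the graph automorphisms take at most two values when the diagram has at most
two symmetries -/
theorem graph_classes (hsym : ∃ π₀ : Equiv.Perm (Fin D.rank),
      ∀ π, D.IsDiagramSymmetry π → π = 1 ∨ π = π₀) :
    (DF (F := F) D hD M d hd hM).index = 1 ∨ (DF (F := F) D hD M d hd hM).index = 2 := by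
  obtain ⟨π₀, hπ₀⟩ := hsym
  have hN := DF_normal (F := F) D hD M d hd hM
  have : Finite (Cfsg.Out ↥(D.group F)) := inferInstance
  -- the class `w`
  have hw : ∃ w : Cfsg.Out ↥(D.group F), ∀ g : ↥(D.group F) ≃* ↥(D.group F), D.IsGraphAut g →
      outMk D g = 1 ∨ outMk D g = w := by
    by_cases hex : ∃ g₀ : ↥(D.group F) ≃* ↥(D.group F), GraphVia D π₀ g₀
    · obtain ⟨g₀, hg₀⟩ := hex
      refine ⟨outMk D g₀, ?_⟩
      rintro g ⟨π, hπ, hg⟩
      rcases hπ₀ π hπ with rfl | rfl
      · left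
        have : g = 1 := GraphVia.eq_one D hD hg
        rw [this, map_one]
      · right
        rw [GraphVia.unique D hD hg hg₀]
    · refine ⟨1, ?_⟩
      rintro g ⟨π, hπ, hg⟩
      rcases hπ₀ π hπ with rfl | rfl
      · left
        have : g = 1 := GraphVia.eq_one D hD hg
        rw [this, map_one]
      · exact absurd ⟨g, hg⟩ hex
  obtain ⟨w, hw⟩ := hw
  apply index_one_or_two _ w
  intro ω
  obtain ⟨c, g, σ, hg, rfl⟩ := exists_decomp_out D hD M d hd hM ω
  refine ⟨diagOut D hD M d hd hM c * fieldOut D σ, ⟨c, σ, rfl⟩, ?_⟩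
  rw [outMk_graph_mul_fieldOut D hD g hg σ]
  rcases hw g hg with h1 | h1
  · left
    rw [h1, mul_one]
  · right
    rw [h1, mul_assoc]

end

end Cfsg.Agent.Lib.Helper8.Aut
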