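import Cfsg.Agent.Lib.Helper8.Aut.OutB
import Mathlib

/-!
# `Out(D₄(q)) / DF` is the symmetric group on three letters (helper8)
-/

set_option autoImplicit false

namespace Cfsg.Agent.Lib.Helper8.Aut

open Cfsg Cfsg.Lie Cfsg.Agent.Lib.Helper5 Cfsg.Agent.Lib.Helper5.Chev Cfsg.Agent.ChevAut
  Cfsg.Agent.Lib.Helper5.AutBN Cfsg.Agent.S1081 Cfsg.Agent.Lib.Helper5.ChevPerm
  Cfsg.Agent.Lib.Helper5.ChevPermB

theorem hD4 : chevD4 ∈ [chevG2, chevB2, chevD4, chevF4, chevE6, chevE7, chevE8] := by simp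

theorem hD46 : chevD4 ∈ [chevD4, chevE6] := by simp

/-- products of symmetries are symmetries -/
theorem isDiagramSymmetry_mul (D : ChevalleyDatum) (π π' : Equiv.Perm (Fin D.rank))
    (hπ : D.IsDiagramSymmetry π) (hπ' : D.IsDiagramSymmetry π') :
    D.IsDiagramSymmetry (π * π') := by
  intro i j hij
  rw [Equiv.Perm.mul_apply, Equiv.Perm.mul_apply,
    hπ (π' i) (π' j) (fun h => hij (π'.injective h)), hπ' i j hij]

/-- the symmetries of the diagram `D₄` -/
abbrev SymD4 : Type := {π : Equiv.Perm (Fin chevD4.rank) // chevD4.IsDiagramSymmetry π}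

set_option maxRecDepth 1000000 in
theorem card_symD4 : Fintype.card SymD4 = 6 := by decide +kernel

set_option maxRecDepth 1000000 in
/-- two symmetries of `D₄` which do not commute -/
theorem noncomm_D4 : ∃ π π' : Equiv.Perm (Fin chevD4.rank), chevD4.IsDiagramSymmetry π ∧
    chevD4.IsDiagramSymmetry π' ∧ π * π' * π⁻¹ * π'⁻¹ ≠ 1 := by
  refine ⟨Equiv.swap ⟨0, by decide⟩ ⟨2, by decide⟩, Equiv.swap ⟨0, by decide⟩ ⟨3, by decide⟩,
    ?_, ?_, ?_⟩ <;> decide +kernel

section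

variable {F : Type*} [Field F]

/-- every symmetry of `D₄` is induced by an automorphism -/
theorem exists_actsVia_D4 (π : Equiv.Perm (Fin chevD4.rank)) (hπ : chevD4.IsDiagramSymmetry π) :
    ∃ g : ↥(chevD4.group F) ≃* ↥(chevD4.group F), ActsVia chevD4 π g := by
  have hcl := classD4 π hπ
  simp only [List.mem_cons, List.not_mem_nil, or_false] at hcl
  have key : ∀ (pi sg : List ℕ) (ep : List ℤ), certb chevD4 pi sg ep = true →
      simpleOK chevD4 pi sg ep → (List.ofFn fun i => (π i).val) = pi →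
      ∃ g : ↥(chevD4.group F) ≃* ↥(chevD4.group F), ActsVia chevD4 π g := by
    intro pi sg ep hc hs h
    obtain ⟨α, hα⟩ := Cfsg.Agent.S1081.main (F := F) chevD4 pi sg ep hc hs
    refine ⟨α, ?_⟩
    intro y i t
    have := hα y i.val t i.isLt
    rw [getD_of_ofFn π _ h i] at this
    exact this
  rcases hcl with h | h | h | h | h | h
  · exact key [0, 1, 2, 3] sgD4i epD4i certD4i (by decide) h
  · exact key [2, 1, 3, 0] sgD4a epD4a certD4a (by decide) h
  · exact key [3, 1, 0, 2] sgD4b epD4b certD4b (by decide) h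
  · exact key [2, 1, 0, 3] sgD4c epD4c certD4c (by decide) h
  · exact key [3, 1, 2, 0] sgD4d epD4d certD4d (by decide) h
  · exact key [0, 1, 3, 2] sgD4e epD4e certD4e (by decide) h

end

section

variable {F : Type*} [Field F] [Finite F]
  (M : List (List ℤ)) (d : ℤ) (hd : d ≠ 0) (hM : coordb chevD4 M d = true)

include hd in
/-- the index of `DF` in `Out(D₄(q))` is six and the quotient is not abelian -/
theorem index_D4 :
    (DF (F := F) chevD4 hD4 M d hd hM).index = 6 ∧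
      ¬ commutator (Cfsg.Out ↥(chevD4.group F)) ≤ DF (F := F) chevD4 hD4 M d hd hM := by
  have hN := DF_normal (F := F) chevD4 hD4 M d hd hM
  -- the chosen automorphisms
  have hex : ∀ γ : SymD4, ∃ g : ↥(chevD4.group F) ≃* ↥(chevD4.group F), ActsVia chevD4 γ.1 g :=
    fun γ => exists_actsVia_D4 γ.1 γ.2
  choose gg hgg using hex
  -- classes in `DF`
  have hone : ∀ (π : Equiv.Perm (Fin chevD4.rank)) (_ : chevD4.IsDiagramSymmetry π)
      (g : ↥(chevD4.group F) ≃* ↥(chevD4.group F)), ActsVia chevD4 π g →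
      outMk chevD4 g ∈ DF (F := F) chevD4 hD4 M d hd hM → π = 1 :=
    fun π hπ g hg h => perm_eq_one_of_mem_DF chevD4 hD4 M d hd hM hD46 π hπ g hg h
  constructor
  · -- the bijection
    let S : SymD4 → Cfsg.Out ↥(chevD4.group F) ⧸ DF (F := F) chevD4 hD4 M d hd hM :=
      fun γ => QuotientGroup.mk (outMk chevD4 (gg γ))
    have hinj : Function.Injective S := by
      intro γ γ' h
      have h1 : (outMk chevD4 (gg γ))⁻¹ * outMk chevD4 (gg γ')
          ∈ DF (F := F) chevD4 hD4 M d hd hM := QuotientGroup.eq.1 h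
      rw [← map_inv, ← map_mul] at h1
      have hact : ActsVia chevD4 (γ.1⁻¹ * γ'.1) ((gg γ)⁻¹ * gg γ') :=
        ActsVia.mul (ActsVia.symm hD4 (hgg γ)) (hgg γ')
      have hsym : chevD4.IsDiagramSymmetry (γ.1⁻¹ * γ'.1) :=
        isDiagramSymmetry_mul _ _ _ (isDiagramSymmetry_symm _ _ γ.2) γ'.2
      have := hone _ hsym _ hact h1
      apply Subtype.ext
      exact inv_mul_eq_one.1 this
    have hsurj : Function.Surjective S := by
      intro q
      obtain ⟨ω, rfl⟩ := QuotientGroup.mk_surjective q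
      obtain ⟨c, g, σ, hg, rfl⟩ := exists_decomp_out chevD4 hD4 M d hd hM ω
      obtain ⟨π, hπ, hact⟩ := actsVia_of_isGraphAut chevD4 hD46 g hg
      refine ⟨⟨π, hπ⟩, ?_⟩
      have hgeq : gg ⟨π, hπ⟩ = g := ActsVia.unique hD4 (hgg ⟨π, hπ⟩) hact
      show (QuotientGroup.mk (outMk chevD4 (gg ⟨π, hπ⟩)) :
        Cfsg.Out ↥(chevD4.group F) ⧸ DF (F := F) chevD4 hD4 M d hd hM) = _
      have hmem : diagOut chevD4 hD4 M d hd hM c * fieldOut chevD4 σ
          ∈ DF (F := F) chevD4 hD4 M d hd hM := ⟨c, σ, rfl⟩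
      rw [hgeq, outMk_graph_mul_fieldOut chevD4 hD4 g hg σ, ← mul_assoc, QuotientGroup.mk_mul,
        (QuotientGroup.eq_one_iff (diagOut chevD4 hD4 M d hd hM c * fieldOut chevD4 σ)).2 hmem,
        one_mul]
    have hcard := Nat.card_congr (Equiv.ofBijective S ⟨hinj, hsurj⟩)
    rw [Nat.card_eq_fintype_card, card_symD4] at hcard
    exact hcard.symm
  · intro hle
    obtain ⟨π, π', hπ, hπ', hne⟩ := noncomm_D4
    apply hne
    have hact : ActsVia chevD4 (π * π' * π⁻¹ * π'⁻¹)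
        (gg ⟨π, hπ⟩ * gg ⟨π', hπ'⟩ * (gg ⟨π, hπ⟩)⁻¹ * (gg ⟨π', hπ'⟩)⁻¹) :=
      ActsVia.mul (ActsVia.mul (ActsVia.mul (hgg ⟨π, hπ⟩) (hgg ⟨π', hπ'⟩))
        (ActsVia.symm hD4 (hgg ⟨π, hπ⟩))) (ActsVia.symm hD4 (hgg ⟨π', hπ'⟩))
    have hsym : chevD4.IsDiagramSymmetry (π * π' * π⁻¹ * π'⁻¹) :=
      isDiagramSymmetry_mul _ _ _ (isDiagramSymmetry_mul _ _ _ (isDiagramSymmetry_mul _ _ _ hπ hπ')
        (isDiagramSymmetry_symm _ _ hπ)) (isDiagramSymmetry_symm _ _ hπ')
    apply hone _ hsym _ hact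
    apply hle
    rw [map_mul, map_mul, map_mul, map_inv, map_inv, commutator_def]
    exact Subgroup.commutator_mem_commutator (Subgroup.mem_top _) (Subgroup.mem_top _)

end

end Cfsg.Agent.Lib.Helper8.Aut
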