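import Cfsg.Agent.Lib.Helper8.Aut.CommSimple
import Cfsg.Prelude.Def_LieTypes
import Cfsg.Prelude.Def_ChevB2
import Mathlib

/-!
# The table checks for pairs of nodes, all types (helper8)
-/

set_option autoImplicit false

namespace Cfsg.Agent.Lib.Helper8.Aut

open Cfsg Cfsg.Lie

set_option maxRecDepth 1000000 in
theorem pairsOK_D4 : pairsOK chevD4 = true := by decide +kernel

set_option maxRecDepth 1000000 in
theorem pairsOK_F4 : pairsOK chevF4 = true := by decide +kernel

set_option maxRecDepth 1000000 in
theorem pairsOK_E6 : pairsOK chevE6 = true := by decide +kernel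

set_option maxRecDepth 1000000 in
theorem pairsOK_E7 : pairsOK chevE7 = true := by decide +kernel

set_option maxRecDepth 1000000 in
theorem pairsOK_E8 : pairsOK chevE8 = true := by decide +kernel

theorem pairsOK_all (D : ChevalleyDatum)
    (hD : D ∈ [chevG2, chevB2, chevD4, chevF4, chevE6, chevE7, chevE8]) : pairsOK D = true := by
  simp only [List.mem_cons, List.not_mem_nil, or_false] at hD
  rcases hD with rfl | rfl | rfl | rfl | rfl | rfl | rfl
  · exact pairsOK_G2
  · exact pairsOK_B2
  · exact pairsOK_D4
  · exact pairsOK_F4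
  · exact pairsOK_E6
  · exact pairsOK_E7
  · exact pairsOK_E8

end Cfsg.Agent.Lib.Helper8.Aut
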