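import Cfsg.Agent.Lib.Helper8.Aut.RankOneVec
import Cfsg.Prelude.Def_LieTypes
import Cfsg.Prelude.Def_ChevB2
import Mathlib

/-!
# The table checks for the rank one computation, all types (helper8)
-/

set_option autoImplicit false

namespace Cfsg.Agent.Lib.Helper8.Aut

open Cfsg Cfsg.Lie

/-- the checks for the node `i` -/
def rkOK (D : ChevalleyDatum) (i : ℕ) : Bool :=
  let r := D.simple i
  let nr := D.neg r
  decide (r < D.nroots) && decide (nr < D.nroots) && decide (D.negIdx.getD nr 0 = r) &&
  decide (nr ≠ r) &&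
  decide ((D.cartanSR.getD i #[]).getD r 0 = 2) && decide ((D.cartanSR.getD i #[]).getD nr 0 = -2) &&
  (List.range D.rank).all (fun k =>
    decide ((D.coroot.getD r #[]).getD k 0 = if k = i then 1 else 0) &&
    decide ((D.coroot.getD nr #[]).getD k 0 = if k = i then -1 else 0))

/-- the checks for all nodes -/
def rkAllOK (D : ChevalleyDatum) : Bool := (List.range D.rank).all (rkOK D)

set_option maxRecDepth 1000000 in
theorem rkAllOK_G2 : rkAllOK chevG2 = true := by decide +kernel
set_option maxRecDepth 1000000 in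
theorem rkAllOK_B2 : rkAllOK chevB2 = true := by decide +kernel
set_option maxRecDepth 1000000 in
theorem rkAllOK_D4 : rkAllOK chevD4 = true := by decide +kernel
set_option maxRecDepth 1000000 in
theorem rkAllOK_F4 : rkAllOK chevF4 = true := by decide +kernel
set_option maxRecDepth 1000000 in
theorem rkAllOK_E6 : rkAllOK chevE6 = true := by decide +kernel
set_option maxRecDepth 1000000 in
theorem rkAllOK_E7 : rkAllOK chevE7 = true := by decide +kernel
set_option maxRecDepth 1000000 in
theorem rkAllOK_E8 : rkAllOK chevE8 = true := by decide +kernel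

theorem rkAllOK_all (D : ChevalleyDatum)
    (hD : D ∈ [chevG2, chevB2, chevD4, chevF4, chevE6, chevE7, chevE8]) : rkAllOK D = true := by
  simp only [List.mem_cons, List.not_mem_nil, or_false] at hD
  rcases hD with rfl | rfl | rfl | rfl | rfl | rfl | rfl
  · exact rkAllOK_G2
  · exact rkAllOK_B2
  · exact rkAllOK_D4
  · exact rkAllOK_F4
  · exact rkAllOK_E6
  · exact rkAllOK_E7
  · exact rkAllOK_E8

/-- the table facts for the rank one computation at the node `i` -/
theorem rkData_all (D : ChevalleyDatum)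
    (hD : D ∈ [chevG2, chevB2, chevD4, chevF4, chevE6, chevE7, chevE8]) (i : Fin D.rank) :
    ∃ (hr : D.simple i < D.nroots) (hnr : D.neg (D.simple i) < D.nroots),
      RkData D ⟨D.simple i, hr⟩ ⟨D.neg (D.simple i), hnr⟩ i := by
  have h := rkAllOK_all D hD
  unfold rkAllOK at h
  rw [List.all_eq_true] at h
  have h1 := h i.val (List.mem_range.2 i.isLt)
  unfold rkOK at h1
  simp only [Bool.and_eq_true, decide_eq_true_eq, List.all_eq_true, List.mem_range] at h1
  obtain ⟨⟨⟨⟨⟨⟨hr, hnr⟩, hnn⟩, hne⟩, hc1⟩, hc2⟩, hco⟩ := h1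
  refine ⟨hr, hnr, ?_⟩
  refine ⟨rfl, hnn.symm, fun e => hne (congrArg Fin.val e), hc1, hc2, ?_, ?_⟩
  · intro k
    rw [(hco k.val k.isLt).1]
    by_cases hk : k = i
    · subst hk; simp
    · rw [if_neg hk, if_neg (fun e => hk (Fin.ext e))]
  · intro k
    rw [(hco k.val k.isLt).2]
    by_cases hk : k = i
    · subst hk; simp
    · rw [if_neg hk, if_neg (fun e => hk (Fin.ext e))]

end Cfsg.Agent.Lib.Helper8.Aut
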