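import Cfsg.Agent.Lib.Helper8.Aut.TorusRel
import Cfsg.Agent.Lib.Helper8.Aut.RkAll
import Cfsg.Agent.Lib.Helper8.Aut.DiagOfAut
import Mathlib

/-!
# Automorphisms permuting the fundamental root subgroups: the rank one and torus identities
(helper8)

`θ` is an automorphism of the Chevalley group with `θ(x_{p_i}(t)) = x_{p_{ρ i}}(φ⁺_i t)` and
`θ(x_{-p_i}(t)) = x_{-p_{ρ i}}(φ⁻_i t)`.
-/

set_option autoImplicit false

namespace Cfsg.Agent.Lib.Helper8.Aut

open Cfsg Cfsg.Lie Cfsg.Agent.Lib.Helper5.Chev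
open scoped Matrix

variable {F : Type*} [Field F]

/-- the matrix of an element of the Chevalley group -/
def mat (D : ChevalleyDatum) (g : ↥(D.group F)) : Matrix D.Idx D.Idx F :=
  ((g : GL D.Idx F) : Matrix D.Idx D.Idx F)

theorem mat_mul (D : ChevalleyDatum) (g h : ↥(D.group F)) :
    mat D (g * h) = mat D g * mat D h := rfl

theorem mat_one (D : ChevalleyDatum) : mat D (1 : ↥(D.group F)) = 1 := rfl

theorem mat_xG (D : ChevalleyDatum) (hadd : AllAdd F D) (r : ℕ) (t : F) :
    mat D (xG D hadd r t) = D.x F r t := rfl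

theorem mat_injective (D : ChevalleyDatum) (g h : ↥(D.group F)) (e : mat D g = mat D h) :
    g = h := group_ext D g h e

/-- `θ` sends the fundamental root elements and their negatives as prescribed -/
structure MapsSimple (D : ChevalleyDatum) (θ : ↥(D.group F) ≃* ↥(D.group F))
    (ρ : Equiv.Perm (Fin D.rank)) (φp φm : Fin D.rank → F → F) : Prop where
  pos : ∀ (g : ↥(D.group F)) (i : Fin D.rank) (t : F),
    ((g : GL D.Idx F) : Matrix D.Idx D.Idx F) = D.x F (D.simple i) t →
      ((θ g : GL D.Idx F) : Matrix D.Idx D.Idx F) = D.x F (D.simple (ρ i)) (φp i t)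
  neg : ∀ (g : ↥(D.group F)) (i : Fin D.rank) (t : F),
    ((g : GL D.Idx F) : Matrix D.Idx D.Idx F) = D.x F (D.neg (D.simple i)) t →
      ((θ g : GL D.Idx F) : Matrix D.Idx D.Idx F) = D.x F (D.neg (D.simple (ρ i))) (φm i t)

section

variable {D : ChevalleyDatum} {θ : ↥(D.group F) ≃* ↥(D.group F)}
  {ρ : Equiv.Perm (Fin D.rank)} {φp φm : Fin D.rank → F → F}

theorem MapsSimple.mat_pos (h : MapsSimple D θ ρ φp φm) (hadd : AllAdd F D) (i : Fin D.rank)
    (t : F) : mat D (θ (xG D hadd (D.simple i) t)) = D.x F (D.simple (ρ i)) (φp i t) :=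
  h.pos _ i t rfl

theorem MapsSimple.mat_neg (h : MapsSimple D θ ρ φp φm) (hadd : AllAdd F D) (i : Fin D.rank)
    (t : F) : mat D (θ (xG D hadd (D.neg (D.simple i)) t))
      = D.x F (D.neg (D.simple (ρ i))) (φm i t) :=
  h.neg _ i t rfl

theorem mat_map_mul (θ : ↥(D.group F) ≃* ↥(D.group F)) (g h : ↥(D.group F)) :
    mat D (θ (g * h)) = mat D (θ g) * mat D (θ h) := by
  rw [map_mul, mat_mul]

variable (hD : D ∈ [chevG2, chevB2, chevD4, chevF4, chevE6, chevE7, chevE8])
include hD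

/-- `φ⁺_i` is additive -/
theorem MapsSimple.pos_add (h : MapsSimple D θ ρ φp φm) (i : Fin D.rank) (t u : F) :
    φp i (t + u) = φp i t + φp i u := by
  have hadd := allAdd_all (F := F) D hD
  obtain ⟨hp', -⟩ := simple_lt_all D hD (ρ i) (ρ i).isLt
  have e : xG D hadd (D.simple i) (t + u)
      = xG D hadd (D.simple i) t * xG D hadd (D.simple i) u := by
    apply mat_injective
    rw [mat_mul, mat_xG, mat_xG, mat_xG, hadd.x_add]
  have h1 := congrArg (fun g => mat D (θ g)) e
  simp only [mat_map_mul, h.mat_pos hadd] at h1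
  rw [hadd.x_add] at h1
  exact x_injective D hD _ hp' _ _ h1

theorem MapsSimple.pos_zero (h : MapsSimple D θ ρ φp φm) (i : Fin D.rank) : φp i 0 = 0 := by
  have := h.pos_add hD i 0 0
  rw [add_zero] at this
  exact left_eq_add.mp this

theorem MapsSimple.pos_neg (h : MapsSimple D θ ρ φp φm) (i : Fin D.rank) (t : F) :
    φp i (-t) = -φp i t := by
  have := h.pos_add hD i (-t) t
  rw [neg_add_cancel, h.pos_zero hD] at this
  exact eq_neg_of_add_eq_zero_left this.symm

/-- `φ⁺_i` has trivial kernel -/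
theorem MapsSimple.pos_eq_zero (h : MapsSimple D θ ρ φp φm) (i : Fin D.rank) (t : F)
    (ht : φp i t = 0) : t = 0 := by
  have hadd := allAdd_all (F := F) D hD
  obtain ⟨hp, -⟩ := simple_lt_all D hD i i.isLt
  have h1 : θ (xG D hadd (D.simple i) t) = 1 := by
    apply mat_injective
    rw [h.mat_pos hadd, ht, x_zero, mat_one]
  have h2 : xG D hadd (D.simple i) t = 1 := by
    have := θ.injective (h1.trans (map_one θ).symm)
    exact this
  have h3 := congrArg (mat D) h2
  rw [mat_xG, mat_one] at h3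
  exact xInj_all (F := F) D hD _ hp t h3

/-- **B1** -/
theorem MapsSimple.rank_one (h : MapsSimple D θ ρ φp φm) (i : Fin D.rank) (t : F) (ht : t ≠ 0) :
    φp i t * φm i (-t⁻¹) = -1 := by
  have hadd := allAdd_all (F := F) D hD
  obtain ⟨c, hc⟩ := nMat_mul_x (F := F) D hD i i.isLt t ht
  have hc1 := hc 1
  rw [nMat_eq_prod] at hc1
  -- the identity in the group
  have e : (xG D hadd (D.simple i) t * (xG D hadd (D.neg (D.simple i)) (-t⁻¹)
      * xG D hadd (D.simple i) t)) * xG D hadd (D.simple i) 1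
      = xG D hadd (D.neg (D.simple i)) (c * 1) * (xG D hadd (D.simple i) t *
        (xG D hadd (D.neg (D.simple i)) (-t⁻¹) * xG D hadd (D.simple i) t)) := by
    apply mat_injective
    simp only [mat_mul, mat_xG]
    exact hc1
  have h1 := congrArg (fun g => mat D (θ g)) e
  simp only [mat_map_mul, h.mat_pos hadd, h.mat_neg hadd] at h1
  -- the rank one computation in the target
  obtain ⟨hr, hnr, hdata⟩ := rkData_all D hD (ρ i)
  have hx : ∀ v : F, D.x F (D.simple (ρ i)) v = D.xMat F ⟨D.simple (ρ i), hr⟩ v := by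
    intro v
    unfold ChevalleyDatum.x
    rw [dif_pos hr]
  have hy : ∀ v : F, D.x F (D.neg (D.simple (ρ i))) v
      = D.xMat F ⟨D.neg (D.simple (ρ i)), hnr⟩ v := by
    intro v
    unfold ChevalleyDatum.x
    rw [dif_pos hnr]
  have hne : φp i 1 ≠ 0 := fun h0 => one_ne_zero (h.pos_eq_zero hD i 1 h0)
  refine hdata.key (φp i t) (φm i (-t⁻¹)) (φp i 1) (φm i (c * 1)) hne ?_ ?_
  · rw [← hx, ← hx, ← hy, ← hy]
    calc D.x F (D.simple (ρ i)) (-φp i t) * (D.x F (D.neg (D.simple (ρ i))) (-φm i (-t⁻¹)) *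
          (D.x F (D.simple (ρ i)) (-φp i t) * (D.x F (D.simple (ρ i)) (φp i t) *
            D.x F (D.neg (D.simple (ρ i))) (φm i (-t⁻¹)) * D.x F (D.simple (ρ i)) (φp i t))))
        = D.x F (D.simple (ρ i)) (-φp i t) * (D.x F (D.neg (D.simple (ρ i))) (-φm i (-t⁻¹)) *
          ((D.x F (D.simple (ρ i)) (-φp i t) * D.x F (D.simple (ρ i)) (φp i t)) *
            D.x F (D.neg (D.simple (ρ i))) (φm i (-t⁻¹))) * D.x F (D.simple (ρ i)) (φp i t)) := by
          simp only [Matrix.mul_assoc]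
      _ = 1 := by
          rw [hadd.x_neg_mul, Matrix.one_mul, hadd.x_neg_mul, Matrix.one_mul, hadd.x_neg_mul]
  · rw [← hx, ← hx, ← hy, ← hy]
    simp only [Matrix.mul_assoc] at h1 ⊢
    exact h1

end

end Cfsg.Agent.Lib.Helper8.Aut
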