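import Cfsg.Agent.Lib.Helper8.Aut.CommSimple
import Mathlib

/-!
# The rank one computation on the adjoint module (helper8)

For a fundamental root `r = p_i` the vectors `e_r, h_{p_i}, e_{-r}` span a submodule for
`⟨X_r, X_{-r}⟩`; we compute the action there and deduce: if `x_r(a) x_{-r}(b) x_r(a)` conjugates a
non-trivial element of `X_r` into `X_{-r}` then `a b = -1`.
-/

set_option autoImplicit false

namespace Cfsg.Agent.Lib.Helper8.Aut

open Cfsg Cfsg.Lie Cfsg.Agent.Lib.Helper5.Chev
open scoped Matrix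

section generic

variable {F : Type*} [Field F] (D : ChevalleyDatum)

/-- the basis vector `e_r` -/
def eV (r : Fin D.nroots) : D.Idx → F := Pi.single (Sum.inr r) 1

/-- the basis vector `h_{p_i}` -/
def hV (i : Fin D.rank) : D.Idx → F := Pi.single (Sum.inl i) 1

theorem xMat_mulVec_eV (r : Fin D.nroots) (t : F) :
    D.xMat F r t *ᵥ (eV D r : D.Idx → F) = eV D r := by
  unfold eV
  rw [Matrix.mulVec_single_one]
  funext row
  rw [Matrix.col_apply]
  unfold ChevalleyDatum.xMat
  simp only [Matrix.of_apply]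
  rw [if_pos trivial]
  rcases row with k | u
  · simp
  · by_cases hu : u = r
    · subst hu; simp
    · simp [hu]

theorem xMat_mulVec_hV (r : Fin D.nroots) (i : Fin D.rank) (A : ℤ)
    (hA : (D.cartanSR.getD i.val #[]).getD r.val 0 = A) (t : F) :
    D.xMat F r t *ᵥ (hV D i : D.Idx → F) = hV D i - ((A : F) * t) • eV D r := by
  unfold eV hV
  rw [Matrix.mulVec_single_one]
  funext row
  rw [Matrix.col_apply]
  unfold ChevalleyDatum.xMat
  simp only [Matrix.of_apply]
  rcases row with k | u
  · by_cases hk : k = i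
    · subst hk; simp
    · simp [hk]
  · show (if u = r then -(((D.cartanSR.getD i.val #[]).getD r.val 0 : ℤ) : F) * t else 0) = _
    rw [hA]
    by_cases hu : u = r
    · subst hu; simp
    · simp [hu]

theorem xMat_mulVec_eV_neg (s ns : Fin D.nroots) (hns : ns.val = D.negIdx.getD s.val 0)
    (hne : ns ≠ s) (i : Fin D.rank) (ε : ℤ)
    (hco : ∀ k : Fin D.rank, (D.coroot.getD s.val #[]).getD k.val 0 = if k = i then ε else 0)
    (u : F) :
    D.xMat F s u *ᵥ (eV D ns : D.Idx → F)
      = eV D ns + ((ε : F) * u) • hV D i - (u ^ 2) • eV D s := by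
  unfold eV hV
  rw [Matrix.mulVec_single_one]
  funext row
  rw [Matrix.col_apply, xMat_col_neg D s ns hns hne u row]
  rcases row with k | c
  · show (((D.coroot.getD s.val #[]).getD k.val 0 : ℤ) : F) * u = _
    rw [hco k]
    by_cases hk : k = i
    · subst hk; simp
    · simp [hk]
  · by_cases hc : c = ns
    · subst hc; simp [hne]
    · by_cases hc' : c = s
      · subst hc'; simp [hc]
      · simp [hc, hc']

/-- the vector `α e_r + β h_i + γ e_{-r}` -/
def vec3 (r nr : Fin D.nroots) (i : Fin D.rank) (α β γ : F) : D.Idx → F :=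
  α • eV D r + β • hV D i + γ • eV D nr

theorem vec3_inl (r nr : Fin D.nroots) (i : Fin D.rank) (α β γ : F) :
    vec3 D r nr i α β γ (Sum.inl i) = β := by
  unfold vec3 eV hV
  simp

theorem eV_eq_vec3 (r nr : Fin D.nroots) (i : Fin D.rank) :
    (eV D r : D.Idx → F) = vec3 D r nr i 1 0 0 := by
  unfold vec3
  simp

theorem eV_neg_eq_vec3 (r nr : Fin D.nroots) (i : Fin D.rank) :
    (eV D nr : D.Idx → F) = vec3 D r nr i 0 0 1 := by
  unfold vec3
  simp

/-- the hypotheses on the tables -/
structure RkData (r nr : Fin D.nroots) (i : Fin D.rank) : Prop where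
  neg1 : nr.val = D.negIdx.getD r.val 0
  neg2 : r.val = D.negIdx.getD nr.val 0
  ne : nr ≠ r
  c1 : (D.cartanSR.getD i.val #[]).getD r.val 0 = 2
  c2 : (D.cartanSR.getD i.val #[]).getD nr.val 0 = -2
  co1 : ∀ k : Fin D.rank, (D.coroot.getD r.val #[]).getD k.val 0 = if k = i then 1 else 0
  co2 : ∀ k : Fin D.rank, (D.coroot.getD nr.val #[]).getD k.val 0 = if k = i then -1 else 0

variable {D}

theorem RkData.X_vec3 {r nr : Fin D.nroots} {i : Fin D.rank} (h : RkData D r nr i)
    (t α β γ : F) :
    D.xMat F r t *ᵥ vec3 D r nr i α β γ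
      = vec3 D r nr i (α - 2 * t * β - t ^ 2 * γ) (β + t * γ) γ := by
  unfold vec3
  rw [Matrix.mulVec_add, Matrix.mulVec_add, Matrix.mulVec_smul, Matrix.mulVec_smul,
    Matrix.mulVec_smul, xMat_mulVec_eV, xMat_mulVec_hV D r i 2 h.c1,
    xMat_mulVec_eV_neg D r nr h.neg1 h.ne i 1 h.co1]
  funext row
  simp only [Pi.add_apply, Pi.smul_apply, Pi.sub_apply, smul_eq_mul]
  push_cast
  ring

theorem RkData.Y_vec3 {r nr : Fin D.nroots} {i : Fin D.rank} (h : RkData D r nr i)
    (u α β γ : F) :
    D.xMat F nr u *ᵥ vec3 D r nr i α β γ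
      = vec3 D r nr i α (β - u * α) (γ + 2 * u * β - u ^ 2 * α) := by
  unfold vec3
  rw [Matrix.mulVec_add, Matrix.mulVec_add, Matrix.mulVec_smul, Matrix.mulVec_smul,
    Matrix.mulVec_smul, xMat_mulVec_eV, xMat_mulVec_hV D nr i (-2) h.c2,
    xMat_mulVec_eV_neg D nr r h.neg2 h.ne.symm i (-1) h.co2]
  funext row
  simp only [Pi.add_apply, Pi.smul_apply, Pi.sub_apply, smul_eq_mul]
  push_cast
  ring

/-- the rank one identity -/
theorem RkData.key {r nr : Fin D.nroots} {i : Fin D.rank} (h : RkData D r nr i)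
    (a b c c' : F) (hc : c ≠ 0)
    (hinv : D.xMat F r (-a) * (D.xMat F nr (-b) * (D.xMat F r (-a) *
      (D.xMat F r a * D.xMat F nr b * D.xMat F r a))) = 1)
    (heq : (D.xMat F r a * D.xMat F nr b * D.xMat F r a) * D.xMat F r c
      = D.xMat F nr c' * (D.xMat F r a * D.xMat F nr b * D.xMat F r a)) :
    a * b = -1 := by
  -- apply both sides to `e_r`
  have h1 := congrArg (fun M : Matrix D.Idx D.Idx F => M *ᵥ (eV D r : D.Idx → F)) heq
  simp only [← Matrix.mulVec_mulVec] at h1
  rw [eV_eq_vec3 D r nr i] at h1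
  simp only [h.X_vec3, h.Y_vec3] at h1
  have h2 := congrFun h1 (Sum.inl i)
  rw [vec3_inl, vec3_inl] at h2
  have h3 : c' * (1 + a * b) ^ 2 = 0 := by linear_combination h2
  rcases mul_eq_zero.1 h3 with h4 | h4
  · -- `c' = 0` is impossible
    exfalso
    rw [h4] at heq
    have h0 : D.xMat F nr (0 : F) = 1 := by
      have := x_zero (F := F) (D := D) nr.val
      unfold ChevalleyDatum.x at this
      rw [dif_pos nr.isLt] at this
      exact this
    rw [h0, Matrix.one_mul] at heq
    have h5 : D.xMat F r c = 1 := by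
      have := congrArg (fun M : Matrix D.Idx D.Idx F => D.xMat F r (-a) * (D.xMat F nr (-b) *
        (D.xMat F r (-a) * M))) heq
      simp only [← Matrix.mul_assoc] at this hinv
      rw [hinv] at this
      simpa [Matrix.mul_assoc] using this
    have h6 := congrArg (fun M : Matrix D.Idx D.Idx F => M *ᵥ (eV D nr : D.Idx → F)) h5
    simp only [Matrix.one_mulVec] at h6
    rw [eV_neg_eq_vec3 D r nr i, h.X_vec3] at h6
    have h7 := congrFun h6 (Sum.inl i)
    rw [vec3_inl, vec3_inl] at h7
    apply hc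
    linear_combination h7
  · have h5 : 1 + a * b = 0 := by
      have := pow_eq_zero_iff (two_ne_zero) |>.1 h4
      exact this
    linear_combination h5

end generic

end Cfsg.Agent.Lib.Helper8.Aut
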